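import Groth.Agent.Pi1X.GeomConnFF
import Groth.Agent.Pi1X.FEtBasic
import Groth.Agent.EtH0Lib.Components
import Groth.Agent.RGLib.ApproxGeomCount
import Groth.Agent.S1364
import Groth.Agent.Hensel.Henselization

set_option autoImplicit false
set_option backward.isDefEq.respectTransparency false
set_option backward.isDefEq.respectTransparency.types false
universe u

open CategoryTheory CategoryTheory.Limits AlgebraicGeometry

namespace Groth.Agent.SpecializePi

/-- Geometric reducedness may be checked on algebraically closed fields. -/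
theorem geometricallyReduced_of_isAlgClosed {X S : Scheme.{u}} (f : X ⟶ S)
    (h : ∀ (Ω : Type u) [Field Ω] [IsAlgClosed Ω] (s : Spec (CommRingCat.of Ω) ⟶ S), IsReduced (pullback f s)) :
    GeometricallyReduced f := by
  refine ⟨geometrically_iff_of_isClosedUnderIsomorphisms.mpr fun K _ y => ?_⟩
  let i := Spec.map (CommRingCat.ofHom (algebraMap K (AlgebraicClosure K)))
  haveI : Surjective i := GrpSchLib.surjective_spec_map_field _
  haveI : Flat i := by rw [Flat.SpecMap_iff, CommRingCat.hom_ofHom, RingHom.flat_algebraMap_iff]; infer_instance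
  haveI := h (AlgebraicClosure K) (i ≫ y)
  let q : pullback f (i ≫ y) ⟶ pullback f y :=
    pullback.lift (pullback.fst f (i ≫ y)) (pullback.snd f (i ≫ y) ≫ i) (by rw [pullback.condition, Category.assoc])
  have H : IsPullback q (pullback.snd f (i ≫ y)) (pullback.snd f y) i :=
    IsPullback.of_right (v₁₃ := f) (h₁₂ := pullback.fst f y) (h₂₂ := y)
      (by rw [pullback.lift_fst]; exact IsPullback.of_hasPullback f (i ≫ y))
      (pullback.lift_snd _ _ _) (IsPullback.of_hasPullback f y)
  haveI : Surjective q := MorphismProperty.of_isPullback (P := @Surjective) H.flip inferInstance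
  haveI : Flat q := MorphismProperty.of_isPullback (P := @Flat) H.flip inferInstance
  exact FBaseLib.isReduced_of_flat_surjective q

theorem preconnected_spec_local (A : Type u) [CommRing A] [IsLocalRing A] :
    PreconnectedSpace ↥(Spec (CommRingCat.of A)) := by
  refine preconnectedSpace_iff_clopen.2 fun s hs => ?_
  by_cases h : (IsLocalRing.closedPoint A : ↥(Spec (CommRingCat.of A))) ∈ s
  · exact Or.inr (Set.eq_univ_of_forall fun p => (IsLocalRing.specializes_closedPoint p).mem_open hs.2 h)
  · exact Or.inl (Set.eq_empty_iff_forall_notMem.2 fun p hp => h ((IsLocalRing.specializes_closedPoint p).mem_closed hs.1 hp))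

variable {A : Type u} [CommRing A] [HenselianLocalRing A] [IsSepClosed (IsLocalRing.ResidueField A)]

/-- A connected proper flat scheme with reduced geometric fibres over a strictly henselian ring has
geometrically connected fibres. -/
theorem geometricallyConnected_of_connected {Z : Scheme.{u}} (g : Z ⟶ Spec (CommRingCat.of A)) [IsProper g] [Flat g]
    [LocallyOfFinitePresentation g] [GeometricallyReduced g] [ConnectedSpace Z] : GeometricallyConnected g := by
  rw [RGLib.ApproxCount.geometricallyConnected_iff]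
  haveI : PreconnectedSpace ↥(Spec (CommRingCat.of A)) := preconnected_spec_local A
  let s₀ : ↥(Spec (CommRingCat.of A)) := IsLocalRing.closedPoint A
  have hconst : ∀ y, MoreMor.nGeomConnComp g y = MoreMor.nGeomConnComp g s₀ := fun y =>
    (Groth.Agent.S1364.result g).apply_eq_of_preconnectedSpace y s₀
  intro y
  rw [hconst, MoreMor.nGeomConnComp, RGLib.ApproxCount.card_connected_eq_one_iff]
  haveI : IsProper (g.fiberToSpecResidueField s₀) := MorphismProperty.pullback_snd _ _ inferInstance
  haveI : QuasiSeparatedSpace ↥(g.fiber s₀) := quasiSeparatedSpace_of_quasiSeparated (g.fiberToSpecResidueField s₀)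
  have hr : Set.range (g.fiberι s₀) = EtH0Lib.Zof g (IsLocalRing.maximalIdeal A) := by
    rw [g.range_fiberι]
    ext z
    show g z = IsLocalRing.closedPoint A ↔ _
    rw [EtH0Lib.Zof]
    constructor
    · intro h
      simp only [Set.mem_preimage, h]
      exact (PrimeSpectrum.mem_zeroLocus _ _).2 le_rfl
    · intro h
      simp only [Set.mem_preimage, PrimeSpectrum.mem_zeroLocus, SetLike.coe_subset_coe] at h
      exact PrimeSpectrum.ext ((IsLocalRing.maximalIdeal.isMaximal A).eq_of_le (g z).isPrime.ne_top h).symm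
  have hcl : Topology.IsClosedEmbedding (g.fiberι s₀) := by
    refine ⟨(g.fiberι s₀).isEmbedding, ?_⟩
    rw [g.range_fiberι]
    exact (IsLocalRing.isClosed_singleton_closedPoint (R := A)).preimage g.continuous
  haveI : ConnectedSpace ↥(g.fiber s₀) := (EtH0Lib.connectedSpace_iff_of_bijective _
    (EtH0Lib.bijective_components (IsLocalRing.maximalIdeal A) g (g.fiberι s₀) hcl hr)).1 inferInstance
  haveI : IsSepClosed ((Spec (CommRingCat.of A)).residueField s₀) := by
    exact Hensel.isSepClosed_of_ringEquiv (k := IsLocalRing.ResidueField A) ((IsLocalization.AtPrime.equivQuotMaximalIdeal (IsLocalRing.maximalIdeal A)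
      (Localization.AtPrime (IsLocalRing.maximalIdeal A))).trans (Scheme.Spec.residueFieldIso (CommRingCat.of A) s₀).commRingCatIsoToRingEquiv.symm)
  let κ := (Spec (CommRingCat.of A)).residueField s₀
  haveI : IsIso (Spec.map (CommRingCat.ofHom (algebraMap κ (SeparableClosure κ)))) := by
    haveI : IsIso (CommRingCat.ofHom (algebraMap κ (SeparableClosure κ))) :=
      (ConcreteCategory.isIso_iff_bijective _).2 (IsSepClosed.algebraMap_surjective κ (SeparableClosure κ) |>
        fun h => ⟨(algebraMap κ (SeparableClosure κ)).injective, h⟩)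
    infer_instance
  let π := pullback.fst (g.fiberToSpecResidueField s₀) (Spec.map (CommRingCat.ofHom (algebraMap κ (SeparableClosure κ))))
  haveI : IsIso π := inferInstance
  exact (asIso π).inv.homeomorph.surjective.connectedSpace (Scheme.Hom.continuous _)

/-- Restriction of finite étale covers to a geometric fibre is fully faithful. -/
theorem restrict_fullyFaithful {X : Scheme.{u}} (f : X ⟶ Spec (CommRingCat.of A))
    [IsProper f] [Flat f] [LocallyOfFinitePresentation f]
    (hfib : ∀ (Ω : Type u) [Field Ω] [IsAlgClosed Ω] (s : Spec (CommRingCat.of Ω) ⟶ Spec (CommRingCat.of A)),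
      ConnectedSpace ↥(pullback f s) ∧ IsReduced (pullback f s))
    (Ω : Type u) [Field Ω] [IsAlgClosed Ω] (t : Spec (CommRingCat.of Ω) ⟶ Spec (CommRingCat.of A)) :
    (FEt.restrict (pullback.fst f t)).Full ∧ (FEt.restrict (pullback.fst f t)).Faithful := by
  haveI : PreconnectedSpace ↥(Spec (CommRingCat.of A)) := preconnected_spec_local A
  have hC : ∀ C : Set X, IsClopen C → C.Nonempty → (C ∩ Set.range (pullback.fst f t)).Nonempty := fun C hC hne => by
    have himg : f '' C = Set.univ := IsClopen.eq_univ ⟨f.isClosedMap _ hC.1, f.isOpenMap _ hC.2⟩ (hne.image _)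
    obtain ⟨x, hx, hxt⟩ := himg.ge (Set.mem_univ (t (IsLocalRing.closedPoint Ω)))
    exact ⟨x, hx, by rw [Scheme.Pullback.range_fst]; exact ⟨_, hxt.symm⟩⟩
  refine ⟨Pi1X.restrict_full _ hC fun W C hWC => ?_, Pi1X.restrict_faithful _ hC⟩
  haveI : IsFinite W.hom := W.prop.1
  haveI : Etale W.hom := W.prop.2
  let φ : W.left ⟶ X := W.hom
  haveI : IsFinite φ := W.prop.1
  haveI : Etale φ := W.prop.2
  let g := φ ≫ f
  haveI : GeometricallyReduced g := geometricallyReduced_of_isAlgClosed g fun K _ _ s => by
    haveI := (hfib K s).2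
    let φ' := pullback.snd φ (pullback.fst f s)
    haveI : IsFinite φ' := MorphismProperty.pullback_snd _ _ inferInstance
    haveI : Etale φ' := MorphismProperty.pullback_snd _ _ inferInstance
    haveI := Pi1X.isReduced_of_finite_etale_scheme φ'
    exact isReduced_of_isOpenImmersion ((pullbackRightPullbackFstIso f s φ).inv)
  -- finitely many clopens, hence clopen components
  haveI : CompactSpace ↥W.left := QuasiCompact.compactSpace_of_compactSpace g
  let s₀ : ↥(Spec (CommRingCat.of A)) := IsLocalRing.closedPoint A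
  haveI : LocallyOfFiniteType (g.fiberToSpecResidueField s₀) := inferInstance
  haveI : IsLocallyNoetherian (g.fiber s₀) := LocallyOfFiniteType.isLocallyNoetherian (g.fiberToSpecResidueField s₀)
  haveI : CompactSpace ↥(g.fiber s₀) := QuasiCompact.compactSpace_of_compactSpace (g.fiberToSpecResidueField s₀)
  haveI : IsNoetherian (g.fiber s₀) := {}
  have hfin : {Z : Set W.left | IsClopen Z}.Finite := by
    refine Set.Finite.of_finite_image (f := fun Z => (g.fiberι s₀) ⁻¹' Z) (Set.Finite.subset (s := {C | IsClopen C}) ?_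
      (by rintro _ ⟨Z, hZ, rfl⟩; exact IsClopen.preimage hZ (g.fiberι s₀).continuous))
      fun Z hZ Z' hZ' e => ?_
    · refine Set.Finite.of_finite_image (f := fun C => {T ∈ irreducibleComponents ↥(g.fiber s₀) | T ⊆ C})
        (((TopologicalSpace.NoetherianSpace.finite_irreducibleComponents (α := ↥(g.fiber s₀))).finite_subsets).subset
          (by rintro _ ⟨C, -, rfl⟩; exact fun T hT => hT.1)) fun C hC C' hC' e => ?_
      have key : ∀ D : Set ↥(g.fiber s₀), IsClopen D → ∀ z, z ∈ D ↔ irreducibleComponent z ⊆ D := fun D hD z =>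
        ⟨fun h => isIrreducible_irreducibleComponent.isConnected.isPreconnected.subset_isClopen hD
          ⟨z, mem_irreducibleComponent, h⟩, fun h => h mem_irreducibleComponent⟩
      ext z
      rw [key C hC z, key C' hC' z]
      have hT := irreducibleComponent_mem_irreducibleComponents z
      exact ⟨fun h => ((Set.ext_iff.1 e (irreducibleComponent z)).1 ⟨hT, h⟩).2,
        fun h => ((Set.ext_iff.1 e (irreducibleComponent z)).2 ⟨hT, h⟩).2⟩
    · by_contra hne
      have hd : IsClopen (symmDiff Z Z') := by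
        rw [Set.symmDiff_def]; exact (hZ.diff hZ').union (hZ'.diff hZ)
      have himg : g '' symmDiff Z Z' = Set.univ := IsClopen.eq_univ ⟨g.isClosedMap _ hd.1, g.isOpenMap _ hd.2⟩
        ((Set.symmDiff_nonempty.2 hne).image _)
      obtain ⟨z, hz, hzs⟩ := himg.ge (Set.mem_univ s₀)
      obtain ⟨z', rfl⟩ : z ∈ Set.range (g.fiberι s₀) := by rw [g.range_fiberι]; exact hzs
      have he := Set.ext_iff.1 e z'
      simp only [Set.mem_preimage] at he
      rcases hz with ⟨h1, h2⟩ | ⟨h1, h2⟩
      · exact h2 (he.1 h1)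
      · exact h2 (he.2 h1)
  let j := pullback.fst W.hom (pullback.fst f t)
  let G : Set W.left := ⋃₀ {Z | IsClopen Z ∧ j ⁻¹' Z ⊆ C}
  have hG : IsClopen G := by
    rw [show G = ⋃ Z ∈ {Z | IsClopen Z ∧ j ⁻¹' Z ⊆ C}, Z from Set.sUnion_eq_biUnion]
    exact (hfin.subset fun _ h => h.1).isClopen_biUnion fun _ h => h.1
  refine ⟨G, hG, Set.Subset.antisymm (fun p ⟨Z, hZ, hp⟩ => hZ.2 hp) fun p hp => ?_⟩
  -- the component of `j p`
  let Z : Set W.left := ⋂ Y ∈ {Y | IsClopen Y ∧ j p ∈ Y}, Y
  have hZ : IsClopen Z := (hfin.subset fun _ h => h.1).isClopen_biInter fun _ h => h.1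
  have hpZ : j p ∈ Z := Set.mem_iInter₂.2 fun _ h => h.2
  have hZc : _root_.IsConnected Z := by
    refine ⟨⟨_, hpZ⟩, isPreconnected_iff_subset_of_disjoint.2 fun u v hu hv hZuv huv => ?_⟩
    have key : ∀ u v : Set W.left, IsOpen u → IsOpen v → Z ⊆ u ∪ v → Z ∩ (u ∩ v) = ∅ → j p ∈ u → Z ⊆ u := by
      intro u v hu hv hZuv huv hu'
      have hYc : IsClopen (Z ∩ u) := by
        refine ⟨?_, hZ.2.inter hu⟩
        rw [show Z ∩ u = Z ∩ vᶜ from Set.ext fun z => and_congr_right fun hz =>
          ⟨fun h h' => Set.eq_empty_iff_forall_notMem.1 huv z ⟨hz, h, h'⟩, fun h => (hZuv hz).resolve_right h⟩]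
        exact hZ.1.inter hv.isClosed_compl
      exact (Set.biInter_subset_of_mem (show Z ∩ u ∈ {Y | IsClopen Y ∧ j p ∈ Y} from ⟨hYc, hpZ, hu'⟩)).trans
        Set.inter_subset_right
    rcases hZuv hpZ with hu' | hv'
    · exact Or.inl (key u v hu hv hZuv huv hu')
    · exact Or.inr (key v u hv hu (Set.union_comm u v ▸ hZuv) (Set.inter_comm u v ▸ huv) hv')
  let O : W.left.Opens := ⟨Z, hZ.2⟩
  haveI : IsClosedImmersion O.ι := IsClosedImmersion.of_isPreimmersion O.ι (by rw [Scheme.Opens.range_ι]; exact hZ.1)
  haveI : ConnectedSpace ↥(O : Scheme.{u}) := isConnected_iff_connectedSpace.1 hZc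
  haveI : GeometricallyReduced (O.ι ≫ g) := geometricallyReduced_of_isAlgClosed _ fun K _ _ s => by
    haveI : IsReduced (pullback g s) := GeometricallyReduced.geometrically_isReduced _ _ _ (IsPullback.of_hasPullback g s)
    haveI : IsOpenImmersion (pullback.map (O.ι ≫ g) s g s O.ι (𝟙 _) (𝟙 _) (by simp) (by simp)) := inferInstance
    exact isReduced_of_isOpenImmersion (pullback.map (O.ι ≫ g) s g s O.ι (𝟙 _) (𝟙 _) _ _)
  haveI := geometricallyConnected_of_connected (O.ι ≫ g)
  -- the fibre of the component
  let r : pullback (O.ι ≫ g) t ⟶ pullback W.hom (pullback.fst f t) :=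
    pullback.lift (pullback.fst (O.ι ≫ g) t ≫ O.ι)
      (pullback.lift (pullback.fst (O.ι ≫ g) t ≫ O.ι ≫ φ) (pullback.snd (O.ι ≫ g) t)
        (by simp only [Category.assoc]; exact pullback.condition))
      (by rw [pullback.lift_fst, Category.assoc])
  haveI : ConnectedSpace ↥(pullback (O.ι ≫ g) t) :=
    GeometricallyConnected.geometrically_connectedSpace _ _ _ (IsPullback.of_hasPullback _ _)
  have hrange : j ⁻¹' Z ⊆ Set.range r := fun q hq => by
    obtain ⟨z, hz1, hz2⟩ : ∃ z, (pullback.fst (O.ι ≫ g) t) z = (⟨j q, hq⟩ : Z) ∧ r z = q := by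
      have hsq : IsPullback (pullback.fst (O.ι ≫ g) t) r O.ι j := by
        refine IsPullback.of_bot (v₂₁ := pullback.snd W.hom (pullback.fst f t)) (v₂₂ := φ) (h₃₁ := pullback.fst f t) ?_ ?_ (IsPullback.of_hasPullback W.hom (pullback.fst f t))
        · refine IsPullback.of_bot (v₂₁ := pullback.snd f t) (v₂₂ := f) (h₃₁ := t) ?_ ?_ (IsPullback.of_hasPullback f t)
          · simp only [r, Category.assoc, pullback.lift_snd, pullback.lift_snd_assoc]
            exact IsPullback.of_hasPullback (O.ι ≫ g) t
          · simp only [r, Category.assoc, pullback.lift_snd, pullback.lift_fst]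
        · simp only [r, j, pullback.lift_fst]
      obtain ⟨z, hz1, hz2⟩ := Scheme.exists_preimage_of_isPullback hsq ⟨j q, hq⟩ q rfl
      exact ⟨z, hz1, hz2⟩
    exact ⟨z, hz2⟩
  have hsub : j ⁻¹' Z ⊆ C := hrange.trans (by
    have hc := (isPreconnected_univ (α := ↥(pullback (O.ι ≫ g) t))).image r r.continuous.continuousOn
    rw [Set.image_univ] at hc
    exact hc.subset_isClopen hWC ⟨p, hrange hpZ, hp⟩)
  exact ⟨Z, ⟨hZ, hsub⟩, hpZ⟩

end Groth.Agent.SpecializePi
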